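import Cfsg.Agent.BC86.SL2Degrees
import Cfsg.Agent.Lib.BlocksDefect.Kernel

/-!
# Character degrees of `PSL₂(q)` for `q ≡ 1 (mod 4)`

The two characters of degree `(q - 1) / 2` of `SL₂(q)` are nontrivial on the centre.
-/

namespace Cfsg.Agent.SquareRecog

open Cfsg.Agent.Char2x2

variable {F : Type*} [Field F] [Fintype F] [DecidableEq F]

local notation "SL2" => Matrix.SpecialLinearGroup (Fin 2) F

theorem sigS_negOne (e : Fˣ) : sigS e (BC86.negOne : SL2) = BC86.negOne := by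
  apply Subtype.ext
  show sm (sigS e (BC86.negOne : SL2)) = sm (BC86.negOne : SL2)
  rw [sm_sigS]
  ext i j
  fin_cases i <;> fin_cases j <;> simp [BC86.negOne, scalarSL, sm]

/-- For `q ≡ 1 (mod 4)` the characters of degree `(q - 1) / 2` are nontrivial on `-1`. -/
theorem half_negOne (h4 : Fintype.card F % 4 = 1) {χ : Cfsg.IrrCharacter SL2} (hχ : χ ∈ halfSetS) :
    (χ : SL2 → ℂ) BC86.negOne ≠ (χ : SL2 → ℂ) 1 := by
  classical
  intro hcon
  have hodd : Odd (Fintype.card F) := Nat.odd_iff.mpr (by omega)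
  obtain ⟨ε, hε⟩ := exists_not_isSquare hodd
  obtain ⟨c1, c2, c3⟩ := half_casts hodd
  obtain ⟨hcard, -, hfull⟩ := half_data hodd hε
  have hall : ∀ ψ ∈ halfSetS (F := F), (ψ : SL2 → ℂ) BC86.negOne = (ψ : SL2 → ℂ) 1 := by
    intro ψ hψ
    by_cases hne : χ = ψ
    · rw [← hne]; exact hcon
    rw [eq_sigIrr_half hodd hε hχ hψ hne, sigIrr_apply, sigIrr_apply, sigS_negOne, map_one]
    exact hcon
  have h0 : ∑ ψ : Cfsg.IrrCharacter SL2, (ψ : SL2 → ℂ) 1 * (ψ : SL2 → ℂ) BC86.negOne = 0 :=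
    (CharCore.sum_degree_mul_apply _).trans
      (if_neg (BC86.negOne_ne_one (two_ne_zero_of_odd hodd)))
  rw [sum_split, BC86.sum_psSetS_negOne hodd] at h0
  have hpair : ∑ ψ ∈ pairSetS (F := F), (ψ : SL2 → ℂ) 1 * (ψ : SL2 → ℂ) BC86.negOne
      = etaC (-1 : F) * ((Fintype.card F : ℂ) + 1) ^ 2 / 2 := by
    rw [Finset.sum_congr rfl (g := fun ψ : Cfsg.IrrCharacter SL2 =>
        ((Fintype.card F : ℂ) + 1) / 2 * (ψ : SL2 → ℂ) BC86.negOne)
        (fun ψ hψ => by rw [← (pair_data hε ψ hψ).1]; ring),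
      ← Finset.mul_sum, sum_pairSetS hε, BC86.psS_negOne]
    ring
  have hhalf : halfSetS (F := F) ⊆ cuspSetS := fun ψ hψ => (mem_halfSetS.mp hψ).1
  set m : ℂ := (Fintype.card F : ℂ) - 1 with hm
  have hm0 : m ≠ 0 := by
    rw [← c3, Nat.cast_ne_zero]
    have := Fintype.one_lt_card (α := F)
    omega
  have hhalfsum : ∑ ψ ∈ halfSetS (F := F), (ψ : SL2 → ℂ) 1 * (ψ : SL2 → ℂ) BC86.negOne
      = m ^ 2 / 2 := by
    rw [Finset.sum_congr rfl (g := fun _ => m ^ 2 / 4) (fun ψ hψ => by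
      rw [hall ψ hψ, hm, ← (mem_halfSetS.mp hψ).2]; ring), Finset.sum_const, hcard, nsmul_eq_mul]
    push_cast
    ring
  let s : Cfsg.IrrCharacter SL2 → ℤ := fun ψ =>
    if (ψ : SL2 → ℂ) BC86.negOne = (ψ : SL2 → ℂ) 1 then 1 else -1
  have hfullsum : ∑ ψ ∈ cuspSetS (F := F) \ halfSetS, (ψ : SL2 → ℂ) 1 * (ψ : SL2 → ℂ) BC86.negOne
      = m ^ 2 * ((∑ ψ ∈ cuspSetS (F := F) \ halfSetS, s ψ : ℤ) : ℂ) := by
    rw [Int.cast_sum, Finset.mul_sum]
    refine Finset.sum_congr rfl fun ψ hψ => ?_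
    obtain ⟨h1, h2⟩ := Finset.mem_sdiff.mp hψ
    have hd : (ψ : SL2 → ℂ) 1 = m := (hfull ψ h1 h2).1
    by_cases he : (ψ : SL2 → ℂ) BC86.negOne = (ψ : SL2 → ℂ) 1
    · simp only [s, if_pos he]
      rw [he, hd]; push_cast; ring
    · simp only [s, if_neg he]
      rw [(BC86.apply_central_involution ψ BC86.negOne_mem_center BC86.negOne_mul_self).resolve_left
        he, hd]
      push_cast; ring
  rw [← Finset.sum_sdiff hhalf, hpair, hhalfsum, hfullsum] at h0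
  simp only [trivIrr, stIrr, trivS, Pi.one_apply, one_mul, stS_one,
    BC86.stS_of_mem_center BC86.negOne_mem_center] at h0
  have h1 : (((∑ ψ ∈ cuspSetS (F := F) \ halfSetS, s ψ) + 1 : ℤ) : ℂ) = 0 := by
    have : m ^ 2 * ((((∑ ψ ∈ cuspSetS (F := F) \ halfSetS, s ψ) + 1 : ℤ)) : ℂ) = 0 := by
      push_cast at h0 ⊢
      rw [hm] at h0 ⊢
      linear_combination h0
    exact (mul_eq_zero.mp this).resolve_left (pow_ne_zero 2 hm0)
  have h2 : (∑ ψ ∈ cuspSetS (F := F) \ halfSetS, s ψ) + 1 = 0 := by exact_mod_cast h1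
  have hsplit : (∑ ψ ∈ cuspSetS (F := F) \ halfSetS, s ψ) =
      2 * (∑ ψ ∈ cuspSetS (F := F) \ halfSetS,
        if (ψ : SL2 → ℂ) BC86.negOne = (ψ : SL2 → ℂ) 1 then (1 : ℤ) else 0)
        - ((cuspSetS (F := F) \ halfSetS).card : ℤ) := by
    rw [Finset.mul_sum, Finset.card_eq_sum_ones, Nat.cast_sum, ← Finset.sum_sub_distrib]
    refine Finset.sum_congr rfl fun ψ _ => ?_
    simp only [s]
    split_ifs <;> norm_num
  rw [hsplit, card_fullSetS hodd hε] at h2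
  omega

/-- The degrees of `PSL₂(q)` for `q ≡ 1 (mod 4)`. -/
theorem psl_degrees (h4 : Fintype.card F % 4 = 1)
    (χ : Cfsg.IrrCharacter (Matrix.ProjectiveSpecialLinearGroup (Fin 2) F)) :
    ∃ d : ℕ, (χ : Matrix.ProjectiveSpecialLinearGroup (Fin 2) F → ℂ) 1 = d ∧
      (d = 1 ∨ d = Fintype.card F ∨ d = Fintype.card F + 1 ∨ d = (Fintype.card F + 1) / 2 ∨
        d = Fintype.card F - 1) := by
  classical
  have hodd : Odd (Fintype.card F) := Nat.odd_iff.mpr (by omega)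
  set Z := Subgroup.center SL2
  have hone : ((BlocksDefect.inflate Z χ : Cfsg.IrrCharacter SL2) : SL2 → ℂ) 1
      = (χ : Matrix.ProjectiveSpecialLinearGroup (Fin 2) F → ℂ) 1 := rfl
  rcases sl_odd_cases hodd (BlocksDefect.inflate Z χ) with
    ⟨-, e⟩ | ⟨-, e⟩ | ⟨-, e⟩ | ⟨-, e⟩ | ⟨hm, -⟩ | ⟨-, e⟩
  · exact ⟨_, hone ▸ e, by simp⟩
  · exact ⟨_, hone ▸ e, by simp⟩
  · exact ⟨_, hone ▸ e, by simp⟩
  · exact ⟨_, hone ▸ e, by simp⟩
  · refine absurd ?_ (half_negOne h4 hm)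
    show (χ : Matrix.ProjectiveSpecialLinearGroup (Fin 2) F → ℂ) (QuotientGroup.mk BC86.negOne) = _
    rw [(QuotientGroup.eq_one_iff _).mpr BC86.negOne_mem_center]
    rfl
  · exact ⟨_, hone ▸ e, by simp⟩

/-- The degrees of `SL₂(4)`'s central quotient. -/
theorem psl_degrees_four (h4 : Fintype.card F = 4)
    (χ : Cfsg.IrrCharacter (Matrix.ProjectiveSpecialLinearGroup (Fin 2) F)) :
    ∃ d : ℕ, (χ : Matrix.ProjectiveSpecialLinearGroup (Fin 2) F → ℂ) 1 = d ∧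
      (d = 1 ∨ d = 3 ∨ d = 4 ∨ d = 5) := by
  classical
  obtain ⟨p, hchar⟩ := CharP.exists F
  have := hchar
  obtain ⟨n, hp, hn⟩ := FiniteField.card F p
  have hp2 : p = 2 := by
    rw [h4] at hn
    refine ((Nat.prime_dvd_prime_iff_eq hp Nat.prime_two).mp (hp.dvd_of_dvd_pow (n := 2) ?_))
    exact Dvd.dvd.trans (dvd_pow_self p n.ne_zero) (dvd_of_eq hn.symm)
  subst hp2
  set Z := Subgroup.center SL2
  have hone : ((BlocksDefect.inflate Z χ : Cfsg.IrrCharacter SL2) : SL2 → ℂ) 1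
      = (χ : Matrix.ProjectiveSpecialLinearGroup (Fin 2) F → ℂ) 1 := rfl
  rcases sl_even_cases (BlocksDefect.inflate Z χ) with ⟨-, e⟩ | ⟨e, -⟩ | ⟨-, e, -⟩ | ⟨-, e, -⟩
  · exact ⟨1, by rw [← hone, e]; norm_num, by simp⟩
  · refine ⟨4, ?_, by simp⟩
    rw [← hone, e]
    simp [stIrr, stS_one, h4]
  · exact ⟨5, by rw [← hone, e, h4]; norm_num, by simp⟩
  · exact ⟨3, by rw [← hone, e, h4]; norm_num, by simp⟩

end Cfsg.Agent.SquareRecog
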