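import Cfsg.Agent.SquareRecog.Mixed
import Cfsg.Agent.Lib.SmallGroups.Basic
import Cfsg.Agent.Lib.BlocksDefect.Basic
import Cfsg.Agent.Lib.BlocksDefect.Kernel
import Cfsg.Agent.Lib.LinearGroup.SmallPSL
import Cfsg.Agent.Lib.LinearGroup.Card
import Cfsg.Agent.S0340

/-!
# A group with the degrees and the order of `PSL₂(p²)` is `PSL₂(p²)`
-/

set_option linter.unusedSectionVars false

namespace Cfsg.Agent.SquareRecog

open Cfsg MulAction

namespace Data

variable {G : Type*} [Group G] [Finite G] {p q h : ℕ} (D : Data G p q h) [Fact p.Prime]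
include D

theorem card_sylow (P : Sylow p G) : Nat.card ↥(P : Subgroup G) = q :=
  D.hq ▸ SmallGroups.card_sylow_eq D.card_eq_pow D.not_p_dvd P

theorem centralizer_eq (P : Sylow p G) {u : G} (hu : u ∈ (P : Subgroup G)) (hu1 : u ≠ 1) :
    Subgroup.centralizer ({u} : Set G) = (P : Subgroup G) := by
  classical
  have := IsPGroup.isMulCommutative_of_card_eq_prime_sq ((D.card_sylow P).trans D.hq)
  obtain ⟨k, hk⟩ := IsPGroup.iff_orderOf.mp P.2 ⟨u, hu⟩
  rw [Subgroup.orderOf_mk] at hk
  have hpu : p ∣ orderOf u := by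
    rcases Nat.eq_zero_or_pos k with e | e
    · rw [e, pow_zero, orderOf_eq_one_iff] at hk
      exact absurd hk hu1
    · exact hk ▸ dvd_pow_self p e.ne'
  have hle : (P : Subgroup G) ≤ Subgroup.centralizer ({u} : Set G) := fun g hg =>
    Subgroup.mem_centralizer_singleton_iff.mpr
      (congrArg Subtype.val (mul_comm' (⟨g, hg⟩ : (P : Subgroup G)) ⟨u, hu⟩))
  have hC : IsPGroup p (Subgroup.centralizer ({u} : Set G)) := by
    refine IsPGroup.iff_orderOf.mpr fun x => ?_
    refine ⟨_, Nat.eq_prime_pow_of_unique_prime_dvd (orderOf_pos x).ne' fun {r} hr hrx => ?_⟩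
    by_contra hne
    have : Fact r.Prime := ⟨hr⟩
    rw [← Subgroup.orderOf_coe] at hrx
    set y : G := (x : G) ^ (orderOf (x : G) / r)
    have hy : orderOf y = r := orderOf_pow_orderOf_div (orderOf_pos _).ne' hrx
    have hyu : Commute y u :=
      (show Commute (x : G) u from Subgroup.mem_centralizer_singleton_iff.mp x.2).pow_left _
    have hco : (orderOf y).Coprime (orderOf u) := by
      rw [hy, hk]
      exact Nat.Coprime.pow_right _ ((Nat.coprime_primes hr D.hp).mpr hne)
    have ho := hyu.orderOf_mul_eq_mul_orderOf_of_coprime hco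
    exact hne (D.prime_eq (x := y * u) (by rw [ho]; exact hpu.mul_left _) hr
      (by rw [ho, hy]; exact dvd_mul_right r _))
  exact P.3 hC hle

theorem eq_of_mem {P R : Sylow p G} {u : G} (hP : u ∈ (P : Subgroup G))
    (hR : u ∈ (R : Subgroup G)) (hu : u ≠ 1) : P = R :=
  Sylow.ext ((D.centralizer_eq P hP hu).symm.trans (D.centralizer_eq R hR hu))

theorem eq_of_smul_eq {P R : Sylow p G} {u : G} (hu : u ∈ (P : Subgroup G)) (hu1 : u ≠ 1)
    (hfix : u • R = R) : R = P := by
  have h1 : u ∈ (P : Subgroup G) ⊓ Subgroup.normalizer ((R : Subgroup G) : Set G) :=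
    ⟨hu, Sylow.smul_eq_iff_mem_normalizer.mp hfix⟩
  have h2 : (P : Subgroup G) ⊓ Subgroup.normalizer ((R : Subgroup G) : Set G)
      = (P : Subgroup G) ⊓ (R : Subgroup G) := P.2.inf_normalizer_sylow R
  rw [h2] at h1
  exact D.eq_of_mem h1.2 hu hu1

theorem not_normal : Nat.card (Sylow p G) ≠ 1 := by
  classical
  intro h1
  obtain ⟨P⟩ : Nonempty (Sylow p G) := inferInstance
  have hN : (P : Subgroup G).Normal := SmallGroups.normal_of_card_sylow_eq_one h1 P
  have h9 := D.nine_le
  have hne : (P : Subgroup G) ≠ ⊥ := fun e => by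
    have := D.card_sylow P
    rw [e, Subgroup.card_bot] at this
    omega
  obtain ⟨u, hu, hu1⟩ := (Subgroup.bot_or_exists_ne_one _).resolve_left hne
  have hidx := BlocksDefect.natCard_isConj u
  rw [D.centralizer_eq P hu hu1] at hidx
  have hle : Nat.card {x : G // IsConj u x} ≤ Nat.card ↥(P : Subgroup G) := by
    refine Nat.card_le_card_of_injective (fun x => ⟨x.1, ?_⟩) fun a b e =>
      Subtype.ext (congrArg Subtype.val e :)
    obtain ⟨c, hc⟩ := isConj_iff.mp x.2
    exact hc ▸ hN.conj_mem u hu c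
  rw [hidx, D.card_sylow P] at hle
  have hmul := (P : Subgroup G).card_mul_index
  rw [D.card_sylow P, D.card, mul_assoc] at hmul
  rw [Nat.eq_of_mul_eq_mul_left (by omega) hmul] at hle
  have := D.five_le_h
  nlinarith [Nat.sub_add_cancel (show 1 ≤ q by omega)]

theorem numerics (P : Sylow p G) : Nat.card (Sylow p G) = q + 1 ∧
    ∃ e : ℕ, 2 * e + 1 = q ∧ Nat.card ↥(Subgroup.normalizer ((P : Subgroup G) : Set G)) = q * e := by
  classical
  have h9 := D.nine_le
  have hmod : Nat.card (Sylow p G) ≡ 1 [MOD p ^ 2] := by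
    by_contra hc
    obtain ⟨P', R, hne, hidx⟩ := SmallGroups.exists_small_index_inter 2 hc
    have hbot : (R : Subgroup G).subgroupOf (P' : Subgroup G) = ⊥ := by
      rw [Subgroup.eq_bot_iff_forall]
      intro x hx
      by_contra hx1
      exact hne (D.eq_of_mem x.2 (Subgroup.mem_subgroupOf.mp hx) fun e => hx1 (Subtype.ext e))
    rw [hbot, Subgroup.index_bot, D.card_sylow P', D.hq, show (2 : ℕ) - 1 = 1 from rfl,
      pow_one, sq] at hidx
    have := D.hp.two_le
    nlinarith
  rw [← D.hq] at hmod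
  obtain ⟨e, he⟩ : q ∣ Nat.card ↥(Subgroup.normalizer ((P : Subgroup G) : Set G)) :=
    D.card_sylow P ▸ Subgroup.card_dvd_of_le Subgroup.le_normalizer
  have hmul := SmallGroups.card_normalizer_mul P
  rw [he, D.card, mul_assoc, mul_assoc] at hmul
  have hmul' := Nat.eq_of_mul_eq_mul_left (by omega) hmul
  set n := Nat.card (Sylow p G) with hn
  have hn1 : 1 ≤ n := Nat.card_pos
  obtain ⟨l, hl⟩ := (Nat.modEq_iff_dvd' hn1).mp hmod.symm
  have hl1 : 1 ≤ l := by
    rcases Nat.eq_zero_or_pos l with h0 | h0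
    · rw [h0, mul_zero] at hl
      exact absurd (show n = 1 by omega) D.not_normal
    · exact h0
  have hq1 : q - 1 + 1 = q := by omega
  have key : 2 * e * n + 1 = q * q := by
    have := D.hh
    nlinarith [hmul']
  have hnl : n = q * l + 1 := by omega
  have hdvd : q ∣ 2 * e + 1 := by
    refine (Nat.dvd_add_right (a := q) (b := 2 * e * (q * l)) ⟨2 * e * l, by ring⟩).mp ?_
    refine ⟨q, ?_⟩
    rw [hnl] at key
    linarith [show 2 * e * (q * l + 1) = 2 * e * (q * l) + 2 * e by ring]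
  obtain ⟨m, hm⟩ := hdvd
  have hm1 : 1 ≤ m := by
    rcases Nat.eq_zero_or_pos m with h0 | h0
    · rw [h0, mul_zero] at hm; omega
    · exact h0
  have hlm : l = 1 ∧ m = 1 := by
    have key' : (q * m - 1) * (q * l + 1) + 1 = q * q := by
      rw [← hm, ← hnl, show 2 * e + 1 - 1 = 2 * e by omega]; exact key
    have hmlow : q ≤ q * m := Nat.le_mul_of_pos_right q hm1
    obtain ⟨w, hw⟩ : ∃ w, q * m = w + 1 := ⟨q * m - 1, by omega⟩
    rw [show q * m - 1 = w by omega] at key'
    have hl2 : l = 1 := by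
      by_contra hc
      have : 2 * q + 1 ≤ q * l + 1 := by
        have := Nat.mul_le_mul_left q (show 2 ≤ l by omega)
        omega
      have hmul2 := Nat.mul_le_mul (show q - 1 ≤ w by omega) this
      obtain ⟨r, rfl⟩ : ∃ r, q = r + 1 := ⟨q - 1, by omega⟩
      rw [Nat.add_sub_cancel] at hmul2
      nlinarith
    refine ⟨hl2, ?_⟩
    by_contra hc
    have : 2 * q ≤ q * m := by
      have := Nat.mul_le_mul_left q (show 2 ≤ m by omega)
      omega
    have hmul2 := Nat.mul_le_mul (show 2 * q - 1 ≤ w by omega) (le_refl (q * l + 1))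
    rw [hl2, mul_one] at hmul2 key'
    obtain ⟨r, rfl⟩ : ∃ r, q = r + 1 := ⟨q - 1, by omega⟩
    rw [show 2 * (r + 1) - 1 = 2 * r + 1 by omega] at hmul2
    nlinarith
  rw [hlm.2, mul_one] at hm
  rw [hlm.1, mul_one] at hnl
  exact ⟨hnl, e, hm, he⟩

theorem exists_move (P : Sylow p G) {b c : Sylow p G} (hb : b ≠ P) (hc : c ≠ P) :
    ∃ g ∈ (P : Subgroup G), g • b = c := by
  classical
  have := Fintype.ofFinite (Sylow p G)
  have hfix : ∀ u : (P : Subgroup G), (u : G) • b ≠ P := fun u e => hb <| by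
    rw [eq_inv_smul_iff.mpr e]
    exact Sylow.smul_eq_iff_mem_normalizer.mpr
      (Subgroup.le_normalizer ((P : Subgroup G).inv_mem u.2))
  let f : ↥(P : Subgroup G) → {R : Sylow p G // R ≠ P} := fun u => ⟨(u : G) • b, hfix u⟩
  have hinj : Function.Injective f := fun u v e => by
    by_contra hne
    have e' : ((v : G)⁻¹ * u) • b = b := by
      rw [mul_smul, show (u : G) • b = (v : G) • b from congrArg Subtype.val e, inv_smul_smul]
    exact hb (D.eq_of_smul_eq ((P : Subgroup G).mul_mem ((P : Subgroup G).inv_mem v.2) u.2)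
      (fun h1 => hne (Subtype.ext (inv_mul_eq_one.mp h1).symm)) e')
  have hcard : Nat.card {R : Sylow p G // R ≠ P} = q := by
    have h1 := (D.numerics P).1
    rw [Nat.card_eq_fintype_card] at h1
    rw [Nat.card_eq_fintype_card, Fintype.card_subtype_compl, Fintype.card_subtype_eq]
    omega
  obtain ⟨u, hu⟩ := ((Nat.bijective_iff_injective_and_card f).2
    ⟨hinj, (D.card_sylow P).trans hcard.symm⟩).2 ⟨c, hc⟩
  exact ⟨u, u.2, congrArg Subtype.val hu⟩

theorem eq_one_of_three (g : G) (a b c : Sylow p G) (hab : a ≠ b) (hac : a ≠ c)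
    (ha : g • a = a) (hb : g • b = b) (hc : g • c = c) (hbc : b ≠ c) : g = 1 := by
  obtain ⟨u, hu, huc⟩ := D.exists_move a (Ne.symm hab) (Ne.symm hac)
  have hu1 : u ≠ 1 := fun e => hbc (by rw [← huc, e, one_smul])
  have hgN := Sylow.smul_eq_iff_mem_normalizer.mp ha
  have hgu : g * u * g⁻¹ ∈ (a : Subgroup G) := (Subgroup.mem_normalizer_iff.mp hgN u).mp hu
  have hginv : g⁻¹ • b = b := inv_smul_eq_iff.mpr hb.symm
  have heq : g * u * g⁻¹ = u := by
    by_contra hne
    refine hab (D.eq_of_smul_eq ((a : Subgroup G).mul_mem ((a : Subgroup G).inv_mem hu) hgu)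
      (fun h1 => hne (inv_mul_eq_one.mp h1).symm) ?_).symm
    rw [mul_smul, mul_smul, mul_smul, hginv, huc, hc, ← huc, inv_smul_smul]
  have hga : g ∈ (a : Subgroup G) :=
    (D.centralizer_eq a hu hu1).le
      (Subgroup.mem_centralizer_singleton_iff.mpr (mul_inv_eq_iff_eq_mul.mp heq))
  by_contra hg1
  exact hab (D.eq_of_smul_eq hga hg1 hb).symm

theorem exists_third (a b : Sylow p G) : ∃ c, c ≠ a ∧ c ≠ b := by
  classical
  have := Fintype.ofFinite (Sylow p G)
  have h1 := (D.numerics a).1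
  have := D.nine_le
  rw [Nat.card_eq_fintype_card] at h1
  by_contra hc
  push Not at hc
  have hle : (Finset.univ : Finset (Sylow p G)) ⊆ {a, b} := fun x _ => by
    by_cases hx : x = a
    · simp [hx]
    · simp [hc x hx]
  have := (Finset.card_le_card hle).trans Finset.card_le_two
  rw [Finset.card_univ] at this
  omega

theorem zassenhaus_aux : FaithfulSMul G (Sylow p G) ∧
    IsMultiplyPretransitive G (Sylow p G) 2 := by
  refine ⟨⟨fun {g k} hgk => ?_⟩, is_two_pretransitive_iff.mpr fun {a b c d} hab hcd => ?_⟩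
  · obtain ⟨a⟩ : Nonempty (Sylow p G) := inferInstance
    obtain ⟨b, hb, -⟩ := D.exists_third a a
    obtain ⟨c, hca, hcb⟩ := D.exists_third a b
    refine inv_mul_eq_one.mp (D.eq_one_of_three (g⁻¹ * k) a b c (Ne.symm hb) (Ne.symm hca)
      ?_ ?_ ?_ (Ne.symm hcb)) <;> rw [mul_smul, ← hgk, inv_smul_smul]
  · obtain ⟨g, hg⟩ := MulAction.exists_smul_eq G a c
    have hb : g • b ≠ c := fun e => hab (MulAction.injective g (hg.trans e.symm))
    obtain ⟨u, hu, hud⟩ := D.exists_move c hb (Ne.symm hcd)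
    refine ⟨u * g, ?_, by rw [mul_smul, hud]⟩
    rw [mul_smul, hg]
    exact Sylow.smul_eq_iff_mem_normalizer.mpr (Subgroup.le_normalizer hu)

theorem isSimple : IsSimpleGroup G := by
  classical
  obtain ⟨hfaith, htwo⟩ := D.zassenhaus_aux
  have h9 := D.nine_le
  have : Nontrivial G := Finite.one_lt_card_iff_nontrivial.mp (by
    rw [D.card]
    have := D.five_le_h
    have h1 : 1 ≤ q - 1 := by omega
    exact lt_of_lt_of_le (show 1 < 9 * 1 * 5 by norm_num)
      (Nat.mul_le_mul (Nat.mul_le_mul h9 h1) this))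
  refine ⟨fun M hM => or_iff_not_imp_left.mpr fun hne => ?_⟩
  obtain ⟨m, hm, hm1⟩ := (Subgroup.bot_or_exists_ne_one _).resolve_left hne
  obtain ⟨a, hma⟩ : ∃ a : Sylow p G, m • a ≠ a := by
    by_contra hc
    push Not at hc
    exact hm1 (hfaith.eq_of_smul_eq_smul fun x => by rw [hc x, one_smul])
  have htrans : ∀ c : Sylow p G, ∃ k ∈ M, k • a = c := by
    intro c
    by_cases hc : c = a
    · exact ⟨1, M.one_mem, by rw [hc, one_smul]⟩
    obtain ⟨g, hga, hgb⟩ := (is_two_pretransitive_iff.mp htwo) (Ne.symm hma) (Ne.symm hc)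
    refine ⟨g * m * g⁻¹, hM.conj_mem m hm g, ?_⟩
    rw [mul_smul, mul_smul, inv_smul_eq_iff.mpr hga.symm, hgb]
  set N := Subgroup.normalizer ((a : Subgroup G) : Set G)
  have hsurj : Function.Surjective ((QuotientGroup.mk' M).comp N.subtype) := fun x => by
    obtain ⟨g, rfl⟩ := QuotientGroup.mk_surjective x
    obtain ⟨k, hk, hka⟩ := htrans (g • a)
    refine ⟨⟨k⁻¹ * g, Sylow.smul_eq_iff_mem_normalizer.mp
      (by rw [mul_smul, ← hka, inv_smul_smul])⟩, ?_⟩
    show ((k⁻¹ * g : G) : G ⧸ M) = g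
    rw [QuotientGroup.mk_mul, (QuotientGroup.eq_one_iff _).mpr (M.inv_mem hk), one_mul]
  obtain ⟨-, e, he, hN⟩ := D.numerics a
  have hdvd : Nat.card (G ⧸ M) ∣ q * e := hN ▸ Subgroup.card_dvd_of_surjective _ hsurj
  have hsmall : ∀ d : ℕ, Nat.Coprime d q → e < d → ¬ d ∣ Nat.card (G ⧸ M) := fun d hd hlt hd' => by
    have := Nat.le_of_dvd (by omega) (hd.dvd_of_dvd_mul_left (hd'.trans hdvd))
    omega
  have hcq : ∀ d, d ∣ (q - 1) * h → Nat.Coprime d q := fun d hd => by
    rw [D.hq]
    exact Nat.Coprime.pow_right _ ((D.hp.coprime_iff_not_dvd.mpr fun hpd =>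
      D.not_p_dvd (hpd.trans hd)).symm)
  have hall : ∀ ψ : Cfsg.IrrCharacter (G ⧸ M), ψ = ⟨1, CharCore.isIrrCharacter_one⟩ := by
    intro ψ
    obtain ⟨d', -, hd', hψ⟩ := CharClifford.exists_degree_dvd_card ψ.2
    obtain ⟨d, hd, hcases⟩ := D.deg (BlocksDefect.inflate M ψ)
    have hdd : d' = d := by
      have : ((d' : ℕ) : ℂ) = (d : ℂ) := hψ.symm.trans hd
      exact_mod_cast this
    subst hdd
    have hh := D.hh
    have h5 := D.five_le_h
    rcases hcases with c | c | c | c | c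
    · have h1 := eq_one_of_linear D.perfect (BlocksDefect.inflate M ψ)
        (by rw [hd, c, Nat.cast_one])
      refine Subtype.ext (funext fun x => ?_)
      obtain ⟨g, rfl⟩ := QuotientGroup.mk_surjective x
      exact congrFun (congrArg Subtype.val h1) g
    · exfalso
      have := Fintype.ofFinite (G ⧸ M)
      have hsq := CharCore.sum_degree_sq (G := G ⧸ M)
      have hd2 : ∀ φ : Cfsg.IrrCharacter (G ⧸ M), ∃ k : ℕ, (φ : G ⧸ M → ℂ) 1 = k := fun φ => by
        obtain ⟨k, -, -, hk⟩ := CharClifford.exists_degree_dvd_card φ.2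
        exact ⟨k, hk⟩
      choose k hk using hd2
      rw [Finset.sum_congr rfl (g := fun φ => ((k φ ^ 2 : ℕ) : ℂ))
        (fun φ _ => by rw [hk φ, Nat.cast_pow]), ← Nat.cast_sum, Nat.cast_inj] at hsq
      have hle : k ψ ^ 2 ≤ Nat.card (G ⧸ M) :=
        hsq ▸ Finset.single_le_sum (f := fun φ => k φ ^ 2) (fun _ _ => Nat.zero_le _)
          (Finset.mem_univ ψ)
      have hk' : k ψ = q := by
        have : ((k ψ : ℕ) : ℂ) = (d' : ℂ) := (hk ψ).symm.trans hψ
        rw [← c]; exact_mod_cast this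
      have := Nat.le_of_dvd (by nlinarith) hdvd
      rw [hk'] at hle
      nlinarith
    · refine absurd (c ▸ hd') (hsmall _ ?_ (by omega))
      rw [← hh]
      refine Nat.Coprime.mul_left ?_ (hcq h (dvd_mul_left h _))
      exact Nat.coprime_comm.mp (Nat.Prime.coprime_iff_not_dvd Nat.prime_two |>.mpr (by
        have := D.q_mod; omega) |>.symm)
    · exact absurd (c ▸ hd') (hsmall _ (hcq h (dvd_mul_left h _)) (by omega))
    · exact absurd (c ▸ hd') (hsmall _ (hcq _ (dvd_mul_right _ _)) (by omega))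
  have := Fintype.ofFinite (G ⧸ M)
  have hsq := CharCore.sum_degree_sq (G := G ⧸ M)
  have : Subsingleton (Cfsg.IrrCharacter (G ⧸ M)) := ⟨fun x y => (hall x).trans (hall y).symm⟩
  rw [Fintype.sum_subsingleton _ (⟨1, CharCore.isIrrCharacter_one⟩ : Cfsg.IrrCharacter (G ⧸ M))]
    at hsq
  have hone : Nat.card (G ⧸ M) = 1 := by
    have : ((1 : ℕ) : ℂ) = (Nat.card (G ⧸ M) : ℂ) := by
      rw [← hsq]; simp
    exact (Nat.cast_inj.mp this).symm
  exact Subgroup.index_eq_one.mp hone

theorem isZassenhaus : Cfsg.IsZassenhausGroup G (Sylow p G) := by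
  classical
  obtain ⟨hfaith, htwo⟩ := D.zassenhaus_aux
  have h9 := D.nine_le
  obtain ⟨a⟩ : Nonempty (Sylow p G) := inferInstance
  obtain ⟨b, hba, -⟩ := D.exists_third a a
  obtain ⟨hn, e, he, hN⟩ := D.numerics a
  have hstab : ∃ g : G, g ≠ 1 ∧ ∃ a b : Sylow p G, a ≠ b ∧ g • a = a ∧ g • b = b := by
    have := Fintype.ofFinite (Sylow p G)
    set N := Subgroup.normalizer ((a : Subgroup G) : Set G)
    have hNa : ∀ g : N, (g : G) • a = a := fun g => Sylow.smul_eq_iff_mem_normalizer.mpr g.2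
    let f : N → {R : Sylow p G // R ≠ a} := fun g => ⟨(g : G) • b,
      fun h' => hba (MulAction.injective (g : G) (h'.trans (hNa g).symm))⟩
    have hlt : Nat.card {R : Sylow p G // R ≠ a} < Nat.card N := by
      rw [hN, Nat.card_eq_fintype_card, Fintype.card_subtype_compl, Fintype.card_subtype_eq,
        ← Nat.card_eq_fintype_card, hn]
      have : 4 ≤ e := by omega
      nlinarith [Nat.add_sub_cancel (n := q) (m := 1)]
    obtain ⟨x, y, hxy, hne⟩ : ∃ x y : N, f x = f y ∧ x ≠ y := by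
      by_contra hc
      push Not at hc
      exact absurd (Nat.card_le_card_of_injective f fun x y e => hc x y e) (by omega)
    refine ⟨(y : G)⁻¹ * x, fun h1 => hne (Subtype.ext (inv_mul_eq_one.mp h1).symm), a, b,
      Ne.symm hba, ?_, ?_⟩
    · rw [mul_smul, hNa, inv_smul_eq_iff.mpr (hNa y).symm]
    · rw [mul_smul, show (x : G) • b = (y : G) • b from congrArg Subtype.val hxy, inv_smul_smul]
  refine ⟨hfaith, htwo, fun g a b c hab hbc hac ha hb hc =>
    D.eq_one_of_three g a b c hab hac ha hb hc hbc, hstab, fun M hM hMt => ?_⟩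
  obtain ⟨g, hg1, a', b', -, hga, -⟩ := hstab
  rcases D.isSimple.eq_bot_or_eq_top_of_normal M hM with rfl | rfl
  · obtain ⟨⟨k, hk⟩, hk'⟩ := hMt.exists_smul_eq a b
    rw [Subgroup.mem_bot] at hk
    subst hk
    exact absurd ((one_smul G a).symm.trans hk') (Ne.symm hba)
  · refine ⟨a', fun hbot => hg1 ?_⟩
    have : (⟨g, Subgroup.mem_top g⟩ : (⊤ : Subgroup G)) ∈ MulAction.stabilizer (⊤ : Subgroup G) a' :=
      mem_stabilizer_iff.mpr hga
    rw [hbot, Subgroup.mem_bot] at this
    exact congrArg Subtype.val this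

theorem three_dvd : 3 ∣ Nat.card G := by
  rw [D.card, D.hq]
  by_cases h3 : p = 3
  · subst h3; exact ((dvd_pow_self 3 two_ne_zero).mul_right _).mul_right _
  · refine ((Dvd.dvd.mul_left ?_ _)).mul_right _
    have h1 : ¬ 3 ∣ p := fun h' => h3 ((Nat.prime_dvd_prime_iff_eq Nat.prime_three D.hp).mp h').symm
    have : p ^ 2 % 3 = 1 := by
      have : p % 3 = 1 ∨ p % 3 = 2 := by omega
      rcases this with e | e <;> simp [Nat.pow_mod, e]
    omega

theorem field_card {q' : ℕ} (hq' : IsPrimePow q')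
    (hord : Nat.gcd 2 (q' - 1) * Nat.card G = q' * (q' ^ 2 - 1)) : q' = q := by
  have h9 := D.nine_le
  have hh := D.hh
  have h2 := hq'.two_le
  rw [D.card] at hord
  obtain ⟨a, ha⟩ : ∃ a, q' ^ 2 = a + 1 := ⟨q' ^ 2 - 1, by nlinarith [Nat.sub_add_cancel (show 1 ≤ q' ^ 2 by nlinarith)]⟩
  rw [show q' ^ 2 - 1 = a by omega] at hord
  obtain ⟨r, hr⟩ : ∃ r, q = r + 1 := ⟨q - 1, by omega⟩
  rw [show q - 1 = r by omega] at hord
  rcases Nat.even_or_odd q' with hev | hod
  · exfalso
    rw [show Nat.gcd 2 (q' - 1) = 1 from Nat.coprime_two_left.mpr (by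
      obtain ⟨k, hk⟩ := hev; exact ⟨k - 1, by omega⟩), one_mul] at hord
    obtain ⟨s, k, hs, hk, rfl⟩ := (isPrimePow_nat_iff _).mp hq'
    have hs2 : s = 2 := ((Nat.prime_dvd_prime_iff_eq Nat.prime_two hs).mp
      (Nat.prime_two.dvd_of_dvd_pow (even_iff_two_dvd.mp hev))).symm
    subst hs2
    have hdiv : 2 ^ k ∣ q - 1 := by
      have h1 : 2 ^ k ∣ q * r * h := hord ▸ dvd_mul_right _ _
      have c1 : Nat.Coprime (2 ^ k) h := Nat.Coprime.pow_left _ (Nat.coprime_two_left.mpr
        (Nat.odd_iff.mpr D.h_odd))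
      have c2 : Nat.Coprime (2 ^ k) q := Nat.Coprime.pow_left _ (Nat.coprime_two_left.mpr
        (D.hq ▸ D.odd.pow))
      have := c2.dvd_of_dvd_mul_left (c1.dvd_of_dvd_mul_right h1)
      rwa [show q - 1 = r by omega]
    obtain ⟨j, hj⟩ := D.odd
    have hle : 2 ^ k ≤ 2 * p + 2 := by
      have hfac : q - 1 = (2 * j) * (2 * j + 2) := by
        rw [D.hq, hj, show (2 * j + 1) ^ 2 = (2 * j) * (2 * j + 2) + 1 by ring, Nat.add_sub_cancel]
      rw [hfac] at hdiv
      have hj0 : j ≠ 0 := by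
        rintro rfl
        have := D.hp.ne_one
        omega
      rcases Nat.even_or_odd j with ⟨i, hi⟩ | ⟨i, hi⟩
      · have h1 : 2 ^ k ∣ (2 * j * 2) * (j + 1) := by
          rwa [show (2 * j * 2) * (j + 1) = (2 * j) * (2 * j + 2) by ring]
        have c : Nat.Coprime (2 ^ k) (j + 1) := Nat.Coprime.pow_left _
          (Nat.coprime_two_left.mpr ⟨i, by omega⟩)
        have := Nat.le_of_dvd (by omega) (c.dvd_of_dvd_mul_right h1)
        omega
      · have h1 : 2 ^ k ∣ j * (4 * (j + 1)) := by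
          rwa [show j * (4 * (j + 1)) = (2 * j) * (2 * j + 2) by ring]
        have c : Nat.Coprime (2 ^ k) j := Nat.Coprime.pow_left _
          (Nat.coprime_two_left.mpr ⟨i, hi⟩)
        have := Nat.le_of_dvd (by omega) (c.dvd_of_dvd_mul_left h1)
        omega
    by_cases h3 : p = 3
    · have hq9 : q = 9 := by rw [D.hq, h3]; rfl
      have : k ≤ 3 := by
        by_contra hc
        have := Nat.pow_le_pow_right (show 1 ≤ 2 by norm_num) (show 4 ≤ k by omega)
        omega
      have hr8 : r = 8 := by omega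
      have hh5 : h = 5 := by omega
      rw [hq9, hr8, hh5] at hord
      interval_cases k <;> norm_num at ha hord <;> omega
    · have h5 : 5 ≤ p := by
        have := D.hp.two_le
        rcases Nat.lt_or_ge p 5 with hlt | hge
        · interval_cases p <;> omega
        · exact hge
      have hA : 2 * (2 ^ k * a) ≤ 2 * (2 * p + 2) ^ 3 := by
        have : 2 ^ k * a ≤ (2 ^ k) ^ 3 := by nlinarith
        have := Nat.pow_le_pow_left hle 3
        omega
      have hB : 2 * (q * r * h) = q * r * (q + 1) := by rw [← hh]; ring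
      rw [hord] at hB
      rw [hB] at hA
      have hqr : 5 * (q * q) ≤ 6 * (r * (q + 1)) := by nlinarith
      have hp6 : q * (q * q) ≤ 3 * (2 * p + 2) ^ 3 := by nlinarith
      have hbig : 3 * (2 * p + 2) ^ 3 < q * (q * q) := by
        have h6 : 2 * p + 2 ≤ 3 * p := by omega
        have := Nat.pow_le_pow_left h6 3
        rw [D.hq]
        have h4 : 125 * p ^ 3 ≤ p ^ 2 * (p ^ 2 * p ^ 2) := by
          rw [show p ^ 2 * (p ^ 2 * p ^ 2) = p ^ 3 * p ^ 3 by ring]
          exact Nat.mul_le_mul_right _ (Nat.pow_le_pow_left h5 3)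
        have : 0 < p ^ 3 := pow_pos D.hp.pos 3
        nlinarith
      omega
  · rw [show Nat.gcd 2 (q' - 1) = 2 from Nat.gcd_eq_left (by
      obtain ⟨k, hk⟩ := hod; omega)] at hord
    have e1 : q' * a + q' = q' ^ 3 := by rw [show q' ^ 3 = q' * (a + 1) by rw [← ha]; ring]; ring
    have e2 : q' * a + q = q ^ 3 := by
      rw [← hord, show 2 * (q * r * h) = q * r * (q + 1) by rw [← hh]; ring, hr]; ring
    rcases lt_trichotomy q' q with hlt | heq | hgt
    · exfalso; nlinarith [Nat.mul_le_mul hlt.le hlt.le]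
    · exact heq
    · exfalso; nlinarith [Nat.mul_le_mul hgt.le hgt.le]

theorem recog {F : Type*} [Field F] [Fintype F] (hF : Fintype.card F = q) :
    Nonempty (G ≃* Matrix.ProjectiveSpecialLinearGroup (Fin 2) F) := by
  have := D.isSimple
  rcases S0340.result D.isZassenhaus with ⟨K, iK, iKF, ⟨e⟩⟩ | ⟨-, m, -, hm⟩
  · have hord := LinearGroup.gcd_mul_card_PSL_two (F := K)
    rw [← Nat.card_congr e.toEquiv] at hord
    have hK := D.field_card (FiniteField.isPrimePow_card K) (by
      rw [← Nat.card_eq_fintype_card]; exact hord)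
    exact ⟨e.trans (LinearGroup.pslCongr (FiniteField.ringEquivOfCardEq (hK.trans hF.symm)))⟩
  · exfalso
    have h3 := D.three_dvd
    rw [hm] at h3
    obtain ⟨j, hj⟩ : ∃ j, 2 ^ (2 * m + 1) = 3 * j + 2 := by
      have h : 2 ^ (2 * m + 1) % 3 = 2 := by
        rw [pow_succ, pow_mul, Nat.mul_mod, Nat.pow_mod]
        norm_num
      exact ⟨2 ^ (2 * m + 1) / 3, by omega⟩
    rw [hj, show 3 * j + 2 - 1 = 3 * j + 1 by omega, Nat.dvd_iff_mod_eq_zero] at h3
    simp [Nat.mul_mod, Nat.add_mod, Nat.pow_mod] at h3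

end Data

end Cfsg.Agent.SquareRecog
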