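import Cfsg.Agent.Lib.CharInd.DefectZero
import Cfsg.Agent.Lib.CharCore.Complete
import Cfsg.Agent.Lib.CharCore.Linear
import Cfsg.Agent.BC86.Deg

/-!
# A group with the degrees and the order of `PSL₂(p²)`: no elements of order `p r`
-/

set_option linter.unusedSectionVars false

namespace Cfsg.Agent.SquareRecog

open Cfsg

/-- The numerical hypotheses: `q = p ^ 2`, `2 h = q + 1`. -/
structure Data (G : Type*) [Group G] (p q h : ℕ) : Prop where
  hp : p.Prime
  odd : Odd p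
  hq : q = p ^ 2
  hh : 2 * h = q + 1
  card : Nat.card G = q * (q - 1) * h
  perfect : commutator G = ⊤
  deg : ∀ χ : Cfsg.IrrCharacter G, ∃ d : ℕ, (χ : G → ℂ) 1 = d ∧
    (d = 1 ∨ d = q ∨ d = q + 1 ∨ d = h ∨ d = q - 1)

/-- A perfect group has a single linear character. -/
theorem eq_one_of_linear {G : Type*} [Group G] [Finite G] (hperf : commutator G = ⊤)
    (χ : Cfsg.IrrCharacter G) (hχ : (χ : G → ℂ) 1 = 1) :
    χ = ⟨1, CharCore.isIrrCharacter_one⟩ := by
  have hcard : Nat.card {ψ : Cfsg.IrrCharacter G // (ψ : G → ℂ) 1 = 1} = 1 := by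
    rw [CharCore.card_linearCharacters, hperf, Subgroup.index_top]
  have := (Nat.card_eq_one_iff_unique.mp hcard).1
  exact congrArg Subtype.val (Subsingleton.elim
    (⟨χ, hχ⟩ : {ψ : Cfsg.IrrCharacter G // (ψ : G → ℂ) 1 = 1})
    ⟨⟨1, CharCore.isIrrCharacter_one⟩, rfl⟩)

/-- If all nontrivial characters either vanish at `x ≠ 1` or have degree divisible by `N`,
then `N = 1`. -/
theorem eq_one_of_vanish {G : Type*} [Group G] [Finite G] {x : G} (hx : x ≠ 1) {N : ℕ}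
    (H : ∀ χ : Cfsg.IrrCharacter G, χ ≠ ⟨1, CharCore.isIrrCharacter_one⟩ →
      (χ : G → ℂ) x = 0 ∨ ∃ d : ℕ, (χ : G → ℂ) 1 = d ∧ N ∣ d) : N = 1 := by
  classical
  have := Fintype.ofFinite G
  set t : Cfsg.IrrCharacter G := ⟨1, CharCore.isIrrCharacter_one⟩
  have hsum := (CharCore.sum_degree_mul_apply (G := G) x).trans (if_neg hx)
  rw [← Finset.add_sum_erase _ _ (Finset.mem_univ t)] at hsum
  have hex : ∀ χ ∈ Finset.univ.erase t, ∃ z : ℂ, IsIntegral ℤ z ∧
      (χ : G → ℂ) 1 * (χ : G → ℂ) x = (N : ℂ) * z := by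
    intro χ hχ
    rcases H χ (Finset.ne_of_mem_erase hχ) with h | ⟨d, hd, c, hc⟩
    · exact ⟨0, isIntegral_zero, by rw [h, mul_zero, mul_zero]⟩
    · refine ⟨(c : ℂ) * (χ : G → ℂ) x,
        (show IsIntegral ℤ (c : ℂ) by simpa using isIntegral_algebraMap (R := ℤ) (A := ℂ) (x := (c : ℤ))).mul (CharClifford.isIntegral_of_isIrrCharacter χ.2 x), ?_⟩
      rw [hd, hc]; push_cast; ring
  choose z hz hzeq using hex
  rw [← Finset.sum_attach, Finset.sum_congr rfl (fun χ _ => hzeq χ.1 χ.2), ← Finset.mul_sum] at hsum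
  have h1 : ((t : Cfsg.IrrCharacter G) : G → ℂ) 1 * (t : G → ℂ) x = 1 := by simp [t]
  rw [h1] at hsum
  refine Nat.dvd_one.mp (BC86.dvd_of_isIntegral (a := 1) (b := N)
    (z := -∑ χ ∈ (Finset.univ.erase t).attach, z χ.1 χ.2)
    (IsIntegral.sum _ fun χ _ => hz χ.1 χ.2).neg ?_)
  push_cast
  linear_combination hsum

namespace Data

variable {G : Type*} [Group G] [Finite G] {p q h : ℕ} (D : Data G p q h)
include D

theorem nine_le : 9 ≤ q := by
  have := D.hp.two_le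
  obtain ⟨k, hk⟩ := D.odd
  rw [D.hq, sq]
  calc 9 = 3 * 3 := rfl
    _ ≤ p * p := Nat.mul_le_mul (by omega) (by omega)

theorem q_mod : q % 8 = 1 := by
  obtain ⟨k, hk⟩ := D.odd
  obtain ⟨j, hj⟩ := Nat.even_mul_succ_self k
  have : q = 8 * j + 1 := by
    rw [D.hq, hk]
    have : k * (k + 1) = j + j := hj
    linarith [show (2 * k + 1) ^ 2 = 4 * (k * (k + 1)) + 1 by ring]
  omega

theorem five_le_h : 5 ≤ h := by
  have := D.nine_le
  have := D.hh
  omega

theorem h_odd : h % 2 = 1 := by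
  have := D.q_mod
  have := D.hh
  omega

theorem coprime_sub_h : Nat.Coprime (q - 1) h := by
  refine Nat.coprime_of_dvd fun k hk h1 h2 => ?_
  have h3 : k ∣ q + 1 := D.hh ▸ h2.mul_left 2
  have h4 : k ∣ (q + 1) - (q - 1) := Nat.dvd_sub h3 h1
  have := D.nine_le
  rw [show (q + 1) - (q - 1) = 2 by omega] at h4
  rcases (Nat.dvd_prime Nat.prime_two).mp h4 with e | e
  · exact hk.ne_one e
  · subst e
    have := D.h_odd
    omega

theorem not_p_dvd : ¬ p ∣ (q - 1) * h := by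
  intro hd
  have hq2 : p ∣ q := D.hq ▸ dvd_pow_self p two_ne_zero
  have := D.nine_le
  rcases D.hp.dvd_mul.mp hd with h1 | h1
  · have h2 := Nat.dvd_sub hq2 h1
    rw [show q - (q - 1) = 1 by omega] at h2
    exact D.hp.ne_one (Nat.dvd_one.mp h2)
  · have h2 : p ∣ q + 1 := D.hh ▸ h1.mul_left 2
    exact D.hp.ne_one (Nat.dvd_one.mp ((Nat.dvd_add_right hq2).mp h2))

theorem card_eq_pow : Nat.card G = p ^ 2 * ((q - 1) * h) := by
  rw [D.card, D.hq, mul_assoc]

/-- Vanishing of a character of full `r`-part. -/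
theorem vanish {r : ℕ} (hr : r.Prime) {d c : ℕ} (hcard : Nat.card G = d * c) (hc : ¬ r ∣ c)
    {χ : Cfsg.IrrCharacter G} {e : ℕ} (he : d ∣ e) (hχ : (χ : G → ℂ) 1 = e) {x : G}
    (hx : r ∣ orderOf x) : (χ : G → ℂ) x = 0 := by
  have := Fintype.ofFinite G
  have : Fact r.Prime := ⟨hr⟩
  obtain ⟨k, hk⟩ := he
  have hd0 : d ≠ 0 := by
    rintro rfl
    rw [zero_mul] at hcard
    exact Nat.card_pos.ne' hcard
  obtain ⟨n, m, hm, hdm⟩ := Nat.exists_eq_pow_mul_and_not_dvd hd0 r hr.ne_one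
  refine CharInd.char_eq_zero_of_defect_zero χ.2 r n (m * k) (r := m * c) ?_ ?_ ?_ x hx
  · rw [hcard, hdm, mul_assoc]
  · exact fun h' => (hr.dvd_mul.mp h').elim hm hc
  · rw [hχ, hk, hdm, mul_assoc]

/-- No element has order divisible by `p` and another prime. -/
theorem prime_eq {x : G} (hx : p ∣ orderOf x) {r : ℕ} (hr : r.Prime) (hrx : r ∣ orderOf x) :
    r = p := by
  by_contra hne
  have hx1 : x ≠ 1 := fun e => D.hp.ne_one (by rw [e, orderOf_one] at hx; exact Nat.dvd_one.mp hx)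
  have hpq : ∀ {χ : Cfsg.IrrCharacter G}, (χ : G → ℂ) 1 = q → (χ : G → ℂ) x = 0 := fun {χ} e =>
    D.vanish D.hp (D.card.trans (mul_assoc _ _ _)) D.not_p_dvd dvd_rfl e hx
  have hrq : ¬ r ∣ q := fun h' => hne ((Nat.prime_dvd_prime_iff_eq hr D.hp).mp
    (hr.dvd_of_dvd_pow (D.hq ▸ h')))
  have hne1 : ∀ χ : Cfsg.IrrCharacter G, χ ≠ ⟨1, CharCore.isIrrCharacter_one⟩ →
      (χ : G → ℂ) 1 ≠ ((1 : ℕ) : ℂ) := fun χ hχ e =>
    hχ (eq_one_of_linear D.perfect χ (by rw [e, Nat.cast_one]))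
  have h9 := D.nine_le
  have hdvd : r ∣ q * ((q - 1) * h) := by
    rw [← mul_assoc, ← D.card]
    exact hrx.trans (orderOf_dvd_natCard x)
  rcases hr.dvd_mul.mp ((hr.dvd_mul.mp hdvd).resolve_left hrq) with hrd | hrd
  · have hrh : ¬ r ∣ q * h := by
      intro h'
      exact hr.ne_one (Nat.dvd_one.mp (D.coprime_sub_h ▸
        Nat.dvd_gcd hrd ((hr.dvd_mul.mp h').resolve_left hrq)))
    have h5 := D.five_le_h
    have : h = 1 := eq_one_of_vanish hx1 (N := h) fun χ hχ => by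
      obtain ⟨d, hd, e⟩ := D.deg χ
      rcases e with e | e | e | e | e <;> subst d
      · exact absurd hd (hne1 χ hχ)
      · exact Or.inl (hpq hd)
      · exact Or.inr ⟨_, hd, ⟨2, by rw [mul_comm, D.hh]⟩⟩
      · exact Or.inr ⟨_, hd, dvd_rfl⟩
      · exact Or.inl (D.vanish hr (D.card.trans (by ring)) hrh dvd_rfl hd hrx)
    omega
  · have hrm : ¬ r ∣ q * (q - 1) := by
      intro h'
      exact hr.ne_one (Nat.dvd_one.mp (D.coprime_sub_h ▸
        Nat.dvd_gcd ((hr.dvd_mul.mp h').resolve_left hrq) hrd))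
    have hcard : Nat.card G = h * (q * (q - 1)) := D.card.trans (by ring)
    have : q - 1 = 1 := eq_one_of_vanish hx1 (N := q - 1) fun χ hχ => by
      obtain ⟨d, hd, e⟩ := D.deg χ
      rcases e with e | e | e | e | e <;> subst d
      · exact absurd hd (hne1 χ hχ)
      · exact Or.inl (hpq hd)
      · exact Or.inl (D.vanish hr hcard hrm ⟨2, by rw [mul_comm, D.hh]⟩ hd hrx)
      · exact Or.inl (D.vanish hr hcard hrm dvd_rfl hd hrx)
      · exact Or.inr ⟨_, hd, dvd_rfl⟩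
    omega

end Data

end Cfsg.Agent.SquareRecog
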